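import Mathlib

/-!
# Class size sets and a disconnected prime graph

If `M` is centreless with a disconnected prime graph, every nontrivial class size of `M` has full
part at all primes of one side. A centreless group `G` with the same class sizes then has the same
order: otherwise a central element of a Sylow subgroup would commute with elements of full index
on the side of its own prime.
-/

set_option autoImplicit false

namespace CfsgLib.ClassSizeSets

variable {G : Type*} [Group G]

/-- The class size of an element. -/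
noncomputable abbrev cs (x : G) : ℕ := (Subgroup.centralizer ({x} : Set G)).index

/-- `n` has the full part of `m` at the primes of `S`. -/
def Full (m : ℕ) (S : Set ℕ) (n : ℕ) : Prop :=
  ∀ p ∈ S, p.Prime → n.factorization p = m.factorization p

theorem Full.of_dvd {m n k : ℕ} {S : Set ℕ} (hn : n ≠ 0) (hm : k ∣ m) (hm0 : m ≠ 0) (hnk : n ∣ k)
    (hk : k ≠ 0) (h : Full m S n) : Full m S k := fun p hp hpp => by
  have h1 := (Nat.factorization_le_iff_dvd hn hk).2 hnk p
  have h2 := (Nat.factorization_le_iff_dvd hk hm0).2 hm p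
  have h3 := h p hp hpp
  omega

variable [Finite G]

theorem cs_ne_zero (x : G) : cs x ≠ 0 := Subgroup.index_ne_zero_of_finite

theorem cs_dvd_card (x : G) : cs x ∣ Nat.card G := Subgroup.index_dvd_card _

theorem cs_dvd_of_centralizer_le {x y : G}
    (h : Subgroup.centralizer ({y} : Set G) ≤ Subgroup.centralizer ({x} : Set G)) : cs x ∣ cs y :=
  Subgroup.index_dvd_of_le h

omit [Finite G] in
theorem centralizer_mul_of_coprime {x y : G} (hxy : x * y = y * x)
    (hcop : (orderOf x).Coprime (orderOf y)) :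
    Subgroup.centralizer ({x * y} : Set G) ≤ Subgroup.centralizer ({x} : Set G) ⊓
      Subgroup.centralizer ({y} : Set G) := by
  intro g hg
  have hg' : Commute g (x * y) := Subgroup.mem_centralizer_singleton_iff.1 hg
  have hc : Commute x y := hxy
  have key : ∀ {a b : G}, Commute a b → (orderOf a).Coprime (orderOf b) → Commute g (a * b) →
      Commute g a := by
    intro a b hab hcop h
    have h2 := h.pow_right (orderOf b)
    rw [hab.mul_pow, pow_orderOf_eq_one, mul_one] at h2
    obtain ⟨m, hm⟩ := exists_pow_eq_self_of_coprime (x := a) (hcop.symm)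
    rw [← hm]
    exact h2.pow_right m
  refine Subgroup.mem_inf.2 ⟨Subgroup.mem_centralizer_singleton_iff.2 (key hc hcop hg'),
    Subgroup.mem_centralizer_singleton_iff.2 (key hc.symm hcop.symm (hc.eq ▸ hg'))⟩

theorem cs_conj (g x : G) : cs (g * x * g⁻¹) = cs x := by
  have h : Subgroup.centralizer ({g * x * g⁻¹} : Set G) =
      (Subgroup.centralizer ({x} : Set G)).map (MulAut.conj g).toMonoidHom := by
    ext y
    rw [Subgroup.mem_map_equiv]
    simp only [Subgroup.mem_centralizer_singleton_iff, MulAut.conj_symm_apply]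
    constructor <;> intro h
    · calc g⁻¹ * y * g * x = g⁻¹ * (y * (g * x * g⁻¹)) * g := by group
        _ = _ := by rw [h]; group
    · calc y * (g * x * g⁻¹) = g * (g⁻¹ * y * g * x) * g⁻¹ := by group
        _ = _ := by rw [h]; group
  rw [cs, h]
  exact Subgroup.index_map_equiv _ (MulAut.conj g)

theorem factorization_cs (x : G) (p : ℕ) :
    (cs x).factorization p + (Nat.card (Subgroup.centralizer ({x} : Set G))).factorization p =
      (Nat.card G).factorization p := by
  rw [← Subgroup.index_mul_card (Subgroup.centralizer ({x} : Set G)),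
    Nat.factorization_mul (cs_ne_zero x) Nat.card_pos.ne', Finsupp.add_apply]

theorem cs_ne_one (hZ : Subgroup.center G = ⊥) {x : G} (hx : x ≠ 1) : cs x ≠ 1 := fun h => by
  rw [cs, Subgroup.index_eq_one] at h
  refine hx (Subgroup.mem_bot.1 (hZ ▸ Subgroup.mem_center_iff.2 fun g => ?_))
  exact Subgroup.mem_centralizer_singleton_iff.1 (h ▸ Subgroup.mem_top g)

omit [Finite G] in
theorem cs_one : cs (1 : G) = 1 := by
  rw [cs, Subgroup.index_eq_one]
  exact eq_top_iff.2 fun g _ => Subgroup.mem_centralizer_singleton_iff.2 (by simp)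

/-- In a group whose prime graph has no edge between `A` and its complement, the centraliser of an
element of prime order of one side has no prime of the other side. -/
theorem full_of_orderOf_prime {A : Set ℕ}
    (hno : ∀ a ∈ A, ∀ b ∉ A, a.Prime → b.Prime → a ∣ Nat.card G → b ∣ Nat.card G →
      ¬ ∃ x : G, orderOf x = a * b)
    {y : G} {q : ℕ} (hq : q.Prime) (hy : orderOf y = q) :
    (q ∈ A → Full (Nat.card G) Aᶜ (cs y)) ∧ (q ∉ A → Full (Nat.card G) A (cs y)) := by
  have key : ∀ p : ℕ, p.Prime → ¬ (p ∈ A ↔ q ∈ A) →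
      (cs y).factorization p = (Nat.card G).factorization p := by
    intro p hp hside
    rw [← factorization_cs y p, left_eq_add]
    by_contra hne
    have hdvd : p ∣ Nat.card (Subgroup.centralizer ({y} : Set G)) := Nat.dvd_of_factorization_pos hne
    haveI := Fact.mk hp
    obtain ⟨z, hz⟩ := exists_prime_orderOf_dvd_card' p hdvd
    have hzy : Commute (z : G) y := Subgroup.mem_centralizer_singleton_iff.1 z.2
    have hzo : orderOf (z : G) = p := by rw [Subgroup.orderOf_coe, hz]
    have hpq : p ≠ q := fun h => hside (by rw [h])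
    have hord : orderOf ((z : G) * y) = p * q := by
      rw [hzy.orderOf_mul_eq_mul_orderOf_of_coprime (by
        rw [hzo, hy]; exact (Nat.coprime_primes hp hq).2 hpq), hzo, hy]
    have hpG : p ∣ Nat.card G := hzo ▸ orderOf_dvd_natCard _
    have hqG : q ∣ Nat.card G := hy ▸ orderOf_dvd_natCard _
    by_cases hpA : p ∈ A
    · exact hno p hpA q (fun h => hside (iff_of_true hpA h)) hp hq hpG hqG ⟨_, hord⟩
    · have hqA : q ∈ A := by
        by_contra h
        exact hside (iff_of_false hpA h)
      exact hno q hqA p hpA hq hp hqG hpG ⟨_, hord.trans (mul_comm _ _)⟩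
  exact ⟨fun h p hp hpp => key p hpp fun e => hp (e.2 h),
    fun h p hp hpp => key p hpp fun e => h (e.1 hp)⟩

/-- The argument at one prime `r` where `G` is larger than `M`. -/
theorem not_full_of_central {m : ℕ} (hm0 : m ≠ 0) {S T : Set ℕ}
    (hdvd : ∀ x : G, cs x ∣ m) (hboth : ∀ x : G, Full m S (cs x) → Full m T (cs x) → False)
    (hcase : ∀ x : G, x ≠ 1 → Full m S (cs x) ∨ Full m T (cs x))
    {r : ℕ} [Fact r.Prime] (hrS : r ∈ S ∨ m.factorization r = 0)
    (hlt : m.factorization r < (Nat.card G).factorization r)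
    {b : ℕ} [Fact b.Prime] (hbr : b ≠ r) (hbT : b ∈ T) (hbm : m.factorization b ≠ 0)
    (hbG : b ∣ Nat.card G) (R₀ : Sylow r G) {u₀ : G} (hu₀R : u₀ ∈ (R₀ : Subgroup G))
    (hu₀c : ∀ t ∈ (R₀ : Subgroup G), t * u₀ = u₀ * t) : ¬ Full m T (cs u₀) := by
  intro hu₀T
  -- a central element of a Sylow `b`-subgroup
  obtain ⟨Q⟩ := (inferInstance : Nonempty (Sylow b G))
  have hQbot : (Q : Subgroup G) ≠ ⊥ := fun h => by
    have := Q.dvd_card_of_dvd_card hbG
    rw [h, Subgroup.card_bot] at this
    exact (Fact.out : b.Prime).not_dvd_one this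
  haveI : Nontrivial (Q : Subgroup G) := (Subgroup.nontrivial_iff_ne_bot _).2 hQbot
  haveI := Q.2.center_nontrivial
  obtain ⟨w₀, hw₀⟩ := exists_ne (1 : Subgroup.center (Q : Subgroup G))
  obtain ⟨w, hw⟩ : ∃ w : G, w = ((w₀ : (Q : Subgroup G)) : G) := ⟨_, rfl⟩
  have hw1 : w ≠ 1 := fun h => hw₀ (Subtype.ext (Subtype.ext (hw.symm.trans h)))
  have hQw : (Q : Subgroup G) ≤ Subgroup.centralizer ({w} : Set G) := fun t ht => by
    rw [Subgroup.mem_centralizer_singleton_iff, hw]
    exact congrArg Subtype.val (Subgroup.mem_center_iff.1 w₀.2 ⟨t, ht⟩)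
  have hwb : (cs w).factorization b = 0 := Nat.factorization_eq_zero_of_not_dvd fun h =>
    Q.not_dvd_index' Subgroup.index_ne_zero_of_finite (h.trans (Subgroup.index_dvd_of_le hQw))
  have hwS : Full m S (cs w) := (hcase w hw1).resolve_right fun h =>
    hbm ((h b hbT Fact.out).symm.trans hwb)
  -- an element of order `r` commuting with it
  have hrC : r ∣ Nat.card (Subgroup.centralizer ({w} : Set G)) := by
    refine Nat.dvd_of_factorization_pos fun h0 => ?_
    have h1 := factorization_cs w r
    have h2 := (Nat.factorization_le_iff_dvd (cs_ne_zero w) hm0).2 (hdvd w) r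
    omega
  obtain ⟨a₀, ha₀⟩ := exists_prime_orderOf_dvd_card' r hrC
  obtain ⟨a, ha⟩ : ∃ a : G, a = (a₀ : G) := ⟨_, rfl⟩
  have hao : orderOf a = r := by rw [ha, Subgroup.orderOf_coe, ha₀]
  have ha1 : a ≠ 1 := fun h => by
    rw [h, orderOf_one] at hao; exact (Fact.out : r.Prime).ne_one hao.symm
  have haw : Commute a w := ha ▸ Subgroup.mem_centralizer_singleton_iff.1 a₀.2
  have hbw : ∃ k, orderOf w = b ^ k := by
    obtain ⟨k, hk⟩ := IsPGroup.iff_orderOf.1 Q.2 (w₀ : (Q : Subgroup G))
    exact ⟨k, by rw [hw, Subgroup.orderOf_coe, hk]⟩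
  have hcop : (orderOf a).Coprime (orderOf w) := by
    obtain ⟨k, hk⟩ := hbw
    rw [hao, hk]
    exact Nat.Coprime.pow_right _ ((Nat.coprime_primes Fact.out Fact.out).2 hbr.symm)
  have hle := centralizer_mul_of_coprime haw.eq hcop
  have hda : cs a ∣ cs (a * w) := cs_dvd_of_centralizer_le fun g hg => (hle hg).1
  have hdw : cs w ∣ cs (a * w) := cs_dvd_of_centralizer_le fun g hg => (hle hg).2
  have hnS : Full m S (cs (a * w)) :=
    hwS.of_dvd (cs_ne_zero w) (hdvd _) hm0 hdw (cs_ne_zero _)
  have haS : Full m S (cs a) := (hcase a ha1).resolve_right fun h =>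
    hboth _ hnS (h.of_dvd (cs_ne_zero a) (hdvd _) hm0 hda (cs_ne_zero _))
  have heq : ∀ x : G, Full m S (cs x) → (cs x).factorization r = m.factorization r := fun x hx => by
    rcases hrS with h | h
    · exact hx r h Fact.out
    · have := (Nat.factorization_le_iff_dvd (cs_ne_zero x) hm0).2 (hdvd x) r
      omega
  -- a Sylow subgroup of the common centraliser
  obtain ⟨P₀⟩ := (inferInstance : Nonempty (Sylow r (Subgroup.centralizer ({a * w} : Set G))))
  obtain ⟨P, hP⟩ : ∃ P, P = (P₀ : Subgroup (Subgroup.centralizer ({a * w} : Set G))).map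
      (Subgroup.centralizer ({a * w} : Set G)).subtype := ⟨_, rfl⟩
  have hPr : IsPGroup r P := hP ▸ P₀.2.map _
  have hPle : P ≤ Subgroup.centralizer ({a * w} : Set G) := hP ▸ Subgroup.map_subtype_le _
  have hPcard : Nat.card P = r ^ ((Nat.card G).factorization r - m.factorization r) := by
    rw [hP, Subgroup.card_map_of_injective (Subgroup.subtype_injective _), P₀.card_eq_multiplicity]
    congr 1
    have h1 := factorization_cs (a * w) r
    have h2 := heq _ hnS
    omega
  have hmaxC : ∀ (x : G) (K : Subgroup G), Full m S (cs x) → IsPGroup r K →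
      K ≤ Subgroup.centralizer ({x} : Set G) → P ≤ K → K = P := fun x K hx hK hKx hPK => by
    refine (Subgroup.eq_of_le_of_card_ge hPK ?_).symm
    obtain ⟨k, hk⟩ := IsPGroup.iff_card.1 hK
    rw [hk, hPcard]
    refine Nat.pow_le_pow_right (Fact.out : r.Prime).pos ?_
    have h1 : r ^ k ∣ Nat.card (Subgroup.centralizer ({x} : Set G)) :=
      hk ▸ Subgroup.card_dvd_of_le hKx
    have h2 := ((Fact.out : r.Prime).pow_dvd_iff_le_factorization Nat.card_pos.ne').1 h1
    have h3 := factorization_cs x r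
    have h4 := heq x hx
    omega
  have hsup : ∀ (x y : G), IsPGroup r (Subgroup.zpowers y) → (∀ t ∈ P, t * y = y * t) →
      P ≤ Subgroup.centralizer ({x} : Set G) → y ∈ Subgroup.centralizer ({x} : Set G) →
      Full m S (cs x) → y ∈ P := fun x y hy hcomm hPx hyx hx => by
    have hnorm : Subgroup.zpowers y ≤ Subgroup.normalizer (P : Set G) := by
      rw [Subgroup.zpowers_le]
      refine Subgroup.mem_normalizer_iff.2 fun t => ⟨fun ht => ?_, fun ht => ?_⟩
      · rw [← hcomm t ht, mul_inv_cancel_right]; exact ht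
      · have h := hcomm _ ht
        have h' : y * t * y⁻¹ = t := by
          have h2 : y * t = y * (y * t * y⁻¹) := by rw [← h]; group
          exact (mul_left_cancel h2).symm
        rwa [h'] at ht
    have := hmaxC x (P ⊔ Subgroup.zpowers y) hx (hPr.to_sup_of_normal_left' hy hnorm)
      (sup_le hPx (Subgroup.zpowers_le.2 hyx)) le_sup_left
    rw [← this]
    exact Subgroup.mem_sup_right (Subgroup.mem_zpowers y)
  have hza : IsPGroup r (Subgroup.zpowers a) := IsPGroup.of_card (n := 1) (by
    rw [Nat.card_zpowers, hao, pow_one])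
  have hPa : ∀ t ∈ P, t * a = a * t := fun t ht =>
    Subgroup.mem_centralizer_singleton_iff.1 (hle (hPle ht)).1
  have haP : a ∈ P := hsup (a * w) a hza hPa hPle
    (Subgroup.mem_centralizer_singleton_iff.2 (by rw [mul_assoc a w a, ← haw.eq])) hnS
  obtain ⟨R, hR⟩ := hPr.exists_le_sylow
  obtain ⟨g, rfl⟩ := MulAction.exists_smul_eq G R₀ R
  obtain ⟨u, hu⟩ : ∃ u : G, u = g * u₀ * g⁻¹ := ⟨_, rfl⟩
  have huR : ∀ t ∈ ((g • R₀ : Sylow r G) : Subgroup G), t * u = u * t := fun t ht => by
    rw [Sylow.coe_subgroup_smul, Subgroup.mem_pointwise_smul_iff_inv_smul_mem] at ht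
    have h := hu₀c _ ht
    simp only [← map_inv, MulAut.smul_def, MulAut.conj_apply, inv_inv] at h
    rw [hu]
    calc t * (g * u₀ * g⁻¹) = g * (g⁻¹ * t * g * u₀) * g⁻¹ := by group
      _ = g * (u₀ * (g⁻¹ * t * g)) * g⁻¹ := by rw [h]
      _ = _ := by group
  have huR' : u ∈ ((g • R₀ : Sylow r G) : Subgroup G) := by
    rw [Sylow.coe_subgroup_smul, Subgroup.mem_pointwise_smul_iff_inv_smul_mem]
    simp only [← map_inv, MulAut.smul_def, MulAut.conj_apply, inv_inv, hu]
    simpa [mul_assoc] using hu₀R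
  have hzu : IsPGroup r (Subgroup.zpowers u) :=
    (g • R₀ : Sylow r G).2.to_le (Subgroup.zpowers_le.2 huR')
  have huP : u ∈ P := hsup a u hzu (fun t ht => huR t (hR ht))
    (fun t ht => Subgroup.mem_centralizer_singleton_iff.2 (hPa t ht))
    (Subgroup.mem_centralizer_singleton_iff.2 (huR a (hR haP)).symm) haS
  have huw : u * w = w * u := Subgroup.mem_centralizer_singleton_iff.1 (hle (hPle huP)).2
  have hcop' : (orderOf u).Coprime (orderOf w) := by
    obtain ⟨k, hk⟩ := hbw
    obtain ⟨l, hl⟩ := IsPGroup.iff_orderOf.1 hzu ⟨u, Subgroup.mem_zpowers u⟩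
    rw [Subgroup.orderOf_mk] at hl
    rw [hl, hk]
    exact Nat.Coprime.pow _ _ ((Nat.coprime_primes Fact.out Fact.out).2 hbr.symm)
  have hle' := centralizer_mul_of_coprime huw hcop'
  exact hboth (u * w)
    (hwS.of_dvd (cs_ne_zero w) (hdvd _) hm0
      (cs_dvd_of_centralizer_le fun y hy => (hle' hy).2) (cs_ne_zero _))
    ((show Full m T (cs u) by rw [hu, cs_conj]; exact hu₀T).of_dvd (cs_ne_zero u) (hdvd _) hm0
      (cs_dvd_of_centralizer_le fun y hy => (hle' hy).1) (cs_ne_zero _))

omit [Finite G] in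
theorem card_eq_of_cs [Finite G] {M : Type*} [Group M] [Finite M] (hZG : Subgroup.center G = ⊥)
    (hZM : Subgroup.center M = ⊥)
    (h : Set.range (fun g : G => cs g) = Set.range (fun g : M => cs g))
    (A : Set ℕ) (hA : ∃ a ∈ A, a.Prime ∧ a ∣ Nat.card M)
    (hB : ∃ b ∉ A, b.Prime ∧ b ∣ Nat.card M)
    (hno : ∀ a ∈ A, ∀ b ∉ A, a.Prime → b.Prime → a ∣ Nat.card M → b ∣ Nat.card M →
      ¬ ∃ x : M, orderOf x = a * b) :
    Nat.card G = Nat.card M := by
  obtain ⟨a, haA, hap, haM⟩ := hA
  obtain ⟨b, hbA, hbp, hbM⟩ := hB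
  have hm0 : Nat.card M ≠ 0 := Nat.card_pos.ne'
  have hG : ∀ g : G, ∃ x : M, cs x = cs g := fun g => by
    have : cs g ∈ Set.range (fun g : M => cs g) := h ▸ ⟨g, rfl⟩
    exact this
  have hMG : ∀ x : M, ∃ g : G, cs g = cs x := fun x => by
    have : cs x ∈ Set.range (fun g : G => cs g) := h.symm ▸ ⟨x, rfl⟩
    exact this
  have hcaseM : ∀ x : M, x ≠ 1 → Full (Nat.card M) A (cs x) ∨ Full (Nat.card M) Aᶜ (cs x) := by
    intro x hx
    obtain ⟨q, hq, hqx⟩ := Nat.exists_prime_and_dvd (n := orderOf x) (mt orderOf_eq_one_iff.1 hx)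
    have hpos := orderOf_pos x
    have hy : orderOf (x ^ (orderOf x / q)) = q := by
      rw [orderOf_pow' _ (Nat.div_pos (Nat.le_of_dvd hpos hqx) hq.pos).ne',
        Nat.gcd_eq_right (Nat.div_dvd_of_dvd hqx), Nat.div_div_self hqx hpos.ne']
    have hd : cs (x ^ (orderOf x / q)) ∣ cs x := cs_dvd_of_centralizer_le fun g hg =>
      Subgroup.mem_centralizer_singleton_iff.2
        ((Commute.pow_right (Subgroup.mem_centralizer_singleton_iff.1 hg) _).eq)
    by_cases hqA : q ∈ A
    · exact Or.inr (((full_of_orderOf_prime hno hq hy).1 hqA).of_dvd (cs_ne_zero _) (cs_dvd_card x)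
        hm0 hd (cs_ne_zero _))
    · exact Or.inl (((full_of_orderOf_prime hno hq hy).2 hqA).of_dvd (cs_ne_zero _) (cs_dvd_card x)
        hm0 hd (cs_ne_zero _))
  have hdvd : ∀ g : G, cs g ∣ Nat.card M := fun g => by
    obtain ⟨x, hx⟩ := hG g
    exact hx ▸ cs_dvd_card x
  have hboth : ∀ g : G, Full (Nat.card M) A (cs g) → Full (Nat.card M) Aᶜ (cs g) → False := by
    intro g h1 h2
    obtain ⟨x, hx⟩ := hG g
    have heq : cs x = Nat.card M := Nat.eq_of_factorization_eq (cs_ne_zero x) hm0 fun p => by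
      rw [hx]
      by_cases hp : p.Prime
      · by_cases hpA : p ∈ A
        · exact h1 p hpA hp
        · exact h2 p hpA hp
      · rw [Nat.factorization_eq_zero_of_not_prime _ hp, Nat.factorization_eq_zero_of_not_prime _ hp]
    have hx1 : x ≠ 1 := fun e => by
      rw [e, cs_one] at heq
      have := Nat.le_of_dvd Nat.card_pos hbM
      rw [← heq] at this
      exact hbp.one_lt.not_ge this
    have hmul := Subgroup.index_mul_card (Subgroup.centralizer ({x} : Set M))
    rw [show (Subgroup.centralizer ({x} : Set M)).index = Nat.card M from heq] at hmul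
    have hC : Nat.card (Subgroup.centralizer ({x} : Set M)) = 1 :=
      Nat.eq_of_mul_eq_mul_left Nat.card_pos (hmul.trans (mul_one _).symm)
    rw [Subgroup.card_eq_one] at hC
    exact hx1 (Subgroup.mem_bot.1 (hC ▸ Subgroup.mem_centralizer_singleton_iff.2 rfl))
  have hcase : ∀ g : G, g ≠ 1 → Full (Nat.card M) A (cs g) ∨ Full (Nat.card M) Aᶜ (cs g) := by
    intro g hg
    obtain ⟨x, hx⟩ := hG g
    rw [← hx]
    exact hcaseM x fun e => cs_ne_one hZG hg (by rw [← hx, e, cs_one])
  have hle : ∀ p : ℕ, p.Prime →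
      (Nat.card M).factorization p ≤ (Nat.card G).factorization p := by
    intro p hp
    obtain ⟨q, hq, hqM, hside⟩ : ∃ q : ℕ, q.Prime ∧ q ∣ Nat.card M ∧ ¬ (p ∈ A ↔ q ∈ A) := by
      by_cases hpA : p ∈ A
      · exact ⟨b, hbp, hbM, fun e => hbA (e.1 hpA)⟩
      · exact ⟨a, hap, haM, fun e => hpA (e.2 haA)⟩
    haveI := Fact.mk hq
    obtain ⟨y, hy⟩ := exists_prime_orderOf_dvd_card' q hqM
    obtain ⟨g, hg⟩ := hMG y
    have hfull : (cs y).factorization p = (Nat.card M).factorization p := by
      by_cases hpA : p ∈ A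
      · exact (full_of_orderOf_prime hno hq hy).2 (fun e => hside (iff_of_true hpA e)) p hpA hp
      · refine (full_of_orderOf_prime hno hq hy).1 ?_ p hpA hp
        by_contra e
        exact hside (iff_of_false hpA e)
    rw [← hfull, ← hg, ← factorization_cs g p]
    exact Nat.le_add_right _ _
  refine Nat.eq_of_factorization_eq Nat.card_pos.ne' hm0 fun r => ?_
  by_cases hr : r.Prime
  swap
  · rw [Nat.factorization_eq_zero_of_not_prime _ hr, Nat.factorization_eq_zero_of_not_prime _ hr]
  refine le_antisymm (not_lt.1 fun hlt => ?_) (hle r hr)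
  haveI := Fact.mk hr
  have hrG : r ∣ Nat.card G := Nat.dvd_of_factorization_pos (by omega)
  obtain ⟨R₀⟩ := (inferInstance : Nonempty (Sylow r G))
  have hRbot : (R₀ : Subgroup G) ≠ ⊥ := fun e => by
    have := R₀.dvd_card_of_dvd_card hrG
    rw [e, Subgroup.card_bot] at this
    exact hr.not_dvd_one this
  haveI : Nontrivial (R₀ : Subgroup G) := (Subgroup.nontrivial_iff_ne_bot _).2 hRbot
  haveI := R₀.2.center_nontrivial
  obtain ⟨u, hu⟩ := exists_ne (1 : Subgroup.center (R₀ : Subgroup G))
  have hu1 : ((u : (R₀ : Subgroup G)) : G) ≠ 1 := fun e => hu (Subtype.ext (Subtype.ext e))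
  have huc : ∀ t ∈ (R₀ : Subgroup G), t * ((u : (R₀ : Subgroup G)) : G) = (u : (R₀ : Subgroup G)) * t :=
    fun t ht => congrArg Subtype.val (Subgroup.mem_center_iff.1 u.2 ⟨t, ht⟩)
  have hu0 : (cs ((u : (R₀ : Subgroup G)) : G)).factorization r = 0 :=
    Nat.factorization_eq_zero_of_not_dvd fun e =>
      R₀.not_dvd_index' Subgroup.index_ne_zero_of_finite (e.trans (Subgroup.index_dvd_of_le
        fun t ht => Subgroup.mem_centralizer_singleton_iff.2 (huc t ht)))
  have hfb : ∀ {q : ℕ}, q.Prime → q ∣ Nat.card M →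
      (Nat.card M).factorization q ≠ 0 ∧ q ∣ Nat.card G := fun {q} hq hqM => by
    have h1 := hq.factorization_pos_of_dvd hm0 hqM
    exact ⟨h1.ne', Nat.dvd_of_factorization_pos (by have := hle q hq; omega)⟩
  have hnA : r ∈ A ∨ (Nat.card M).factorization r = 0 →
      ¬ Full (Nat.card M) Aᶜ (cs ((u : (R₀ : Subgroup G)) : G)) := fun hside => by
    haveI := Fact.mk hbp
    refine not_full_of_central hm0 (S := A) (T := Aᶜ) hdvd hboth hcase hside hlt (b := b) ?_ hbA
      (hfb hbp hbM).1 (hfb hbp hbM).2 R₀ (SetLike.coe_mem _) huc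
    rintro rfl
    rcases hside with e | e
    · exact hbA e
    · exact (hfb hbp hbM).1 e
  have hnB : r ∉ A ∨ (Nat.card M).factorization r = 0 →
      ¬ Full (Nat.card M) A (cs ((u : (R₀ : Subgroup G)) : G)) := fun hside => by
    haveI := Fact.mk hap
    refine not_full_of_central hm0 (S := Aᶜ) (T := A) hdvd (fun g h1 h2 => hboth g h2 h1)
      (fun g hg => (hcase g hg).symm) hside hlt (b := a) ?_ haA
      (hfb hap haM).1 (hfb hap haM).2 R₀ (SetLike.coe_mem _) huc
    rintro rfl
    rcases hside with e | e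
    · exact e haA
    · exact (hfb hap haM).1 e
  rcases hcase _ hu1 with e | e
  · by_cases hrA : r ∈ A
    · exact hnB (Or.inr ((e r hrA hr).symm.trans hu0)) e
    · exact hnB (Or.inl hrA) e
  · by_cases hrA : r ∈ A
    · exact hnA (Or.inl hrA) e
    · exact hnA (Or.inr ((e r hrA hr).symm.trans hu0)) e

end CfsgLib.ClassSizeSets
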